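import Cfsg.Agent.Lib.CGT.Pres
import Cfsg.Agent.Lib.ON.RecTC
/-! Presentations of the two groups 4.L3(4) and of the centraliser of an involution of the O'Nan group. -/
set_option autoImplicit false
set_option maxRecDepth 100000
namespace H87.ONR
open H54
def R7 : List (List ℕ) := [[0, 0, 0, 0, 0, 0, 0]]
def RA : List (List ℕ) := [[0, 0],
  [3, 3, 3, 3, 3, 3, 3],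
  [0, 3, 3, 0, 3, 3, 0, 3, 3, 0, 3, 3, 0, 3, 3],
  [3, 3, 3, 0, 2, 2, 0, 2, 2, 0, 2, 2, 0, 2, 2, 0, 3, 3],
  [0, 3, 0, 3, 0, 3, 0, 3, 0, 2, 0, 2, 0, 2, 0, 2, 0, 2, 0, 3],
  [2, 2, 0, 3, 3, 0, 3, 3, 0, 2, 2, 2, 2, 2, 0, 3, 3, 0, 2, 2, 2],
  [0, 3, 0, 3, 0, 3, 0, 3, 3, 0, 2, 0, 2, 0, 2, 0, 2, 0, 2, 2, 0, 3],
  [0, 3, 0, 3, 0, 2, 2, 2, 0, 2, 0, 2, 0, 2, 0, 2, 0, 3, 3, 3, 0, 3, 0, 3],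
  [0, 3, 3, 3, 0, 2, 2, 2, 0, 3, 0, 2, 0, 3, 3, 3, 0, 2, 2, 2, 0, 3, 0, 2],
  [0, 2, 0, 2, 0, 2, 2, 0, 2, 0, 2, 2, 0, 2, 0, 2, 2, 0, 2, 0, 2, 0, 3, 0, 3],
  [3, 3, 0, 3, 0, 2, 0, 3, 3, 3, 0, 2, 2, 2, 0, 3, 0, 2, 0, 3, 3, 3, 0, 3, 3],
  [3, 0, 3, 0, 3, 0, 3, 0, 2, 0, 3, 3, 3, 3, 3, 3, 0, 2, 0, 2, 0, 2, 0, 3, 0],
  [3, 0, 3, 0, 2, 0, 2, 0, 2, 0, 3, 3, 3, 3, 3, 3, 0, 2, 0, 3, 0, 3, 0, 3, 0],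
  [2, 0, 2, 0, 2, 0, 3, 0, 3, 0, 2, 2, 2, 2, 2, 2, 0, 3, 0, 3, 0, 2, 0, 2, 0],
  [2, 2, 0, 2, 0, 3, 0, 2, 0, 2, 2, 2, 0, 2, 2, 2, 0, 3, 3, 3, 0, 2, 0, 3, 3, 0]]
def RB : List (List ℕ) := [[0, 0],
  [3, 3, 3, 3, 3, 3, 3],
  [2, 0, 2, 0, 2, 0, 2, 0, 2, 0],
  [2, 2, 2, 0, 3, 0, 3, 0, 3, 0, 3, 0, 2, 2, 2],
  [2, 2, 0, 2, 2, 0, 2, 2, 0, 2, 2, 0, 2, 2, 0],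
  [0, 3, 3, 0, 2, 2, 0, 3, 3, 0, 2, 2, 0, 3, 3, 0, 2, 2],
  [3, 3, 3, 0, 2, 2, 0, 2, 2, 0, 2, 2, 0, 2, 2, 0, 3, 3],
  [2, 2, 0, 2, 2, 0, 2, 0, 3, 0, 3, 0, 3, 0, 2, 0, 2, 2, 0],
  [0, 3, 0, 2, 2, 0, 3, 0, 2, 2, 0, 3, 0, 2, 2, 0, 3, 0, 2, 2],
  [0, 3, 0, 2, 0, 3, 0, 2, 0, 3, 0, 2, 0, 3, 0, 2, 0, 3, 0, 2]]
def RG : List (List ℕ) := [[0, 0],
  [3, 3, 3, 3, 3, 3, 3],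
  [0, 3, 3, 0, 3, 3, 0, 3, 3, 0, 3, 3, 0, 3, 3],
  [3, 3, 3, 0, 2, 2, 0, 2, 2, 0, 2, 2, 0, 2, 2, 0, 3, 3],
  [0, 3, 0, 3, 0, 3, 0, 3, 0, 2, 0, 2, 0, 2, 0, 2, 0, 2, 0, 3],
  [2, 2, 0, 3, 3, 0, 3, 3, 0, 2, 2, 2, 2, 2, 0, 3, 3, 0, 2, 2, 2],
  [0, 3, 0, 3, 0, 3, 0, 3, 3, 0, 2, 0, 2, 0, 2, 0, 2, 0, 2, 2, 0, 3],
  [0, 3, 0, 3, 0, 2, 2, 2, 0, 2, 0, 2, 0, 2, 0, 2, 0, 3, 3, 3, 0, 3, 0, 3],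
  [0, 3, 3, 3, 0, 2, 2, 2, 0, 3, 0, 2, 0, 3, 3, 3, 0, 2, 2, 2, 0, 3, 0, 2],
  [0, 2, 0, 2, 0, 2, 2, 0, 2, 0, 2, 2, 0, 2, 0, 2, 2, 0, 2, 0, 2, 0, 3, 0, 3],
  [3, 3, 0, 3, 0, 2, 0, 3, 3, 3, 0, 2, 2, 2, 0, 3, 0, 2, 0, 3, 3, 3, 0, 3, 3],
  [3, 0, 3, 0, 3, 0, 3, 0, 2, 0, 3, 3, 3, 3, 3, 3, 0, 2, 0, 2, 0, 2, 0, 3, 0],
  [3, 0, 3, 0, 2, 0, 2, 0, 2, 0, 3, 3, 3, 3, 3, 3, 0, 2, 0, 3, 0, 3, 0, 3, 0],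
  [2, 0, 2, 0, 2, 0, 3, 0, 3, 0, 2, 2, 2, 2, 2, 2, 0, 3, 0, 3, 0, 2, 0, 2, 0],
  [2, 2, 0, 2, 0, 3, 0, 2, 0, 2, 2, 2, 0, 2, 2, 2, 0, 3, 3, 3, 0, 2, 0, 3, 3, 0],
  [4, 4],
  [4, 0, 4, 0],
  [4, 2, 4, 1, 2, 2, 2, 1, 3, 1, 3, 3, 1, 2, 1, 2, 1, 3, 1]]
theorem bnd7 : Bnd R7 1 7 :=
  Bnd.tc (bnd_zero []) (n := 7) (fun g ω => T54.ONh87m.enum g ω) (by decide) [0, 1] rfl (icol_ge _ rfl)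
    []
    [([0, 1], []),
  ([1, 0], [])]
    (by decide +kernel)
theorem bndA : Bnd RA 2 80640 :=
  Bnd.tc bnd7 (n := 11520) (fun g ω => T54.ONh87n.enum g ω) (by decide) [0, 2, 3] rfl (icol_ge _ rfl)
    [[2]]
    [([2, 3], []),
  ([3, 2], []),
  ([2, 2, 2, 2, 2, 2, 2], [([], 2)])]
    (by decide +kernel)
theorem bndB : Bnd RB 2 80640 :=
  Bnd.tc bnd7 (n := 11520) (fun g ω => T54.ONh87o.enum g ω) (by decide) [0, 2, 3] rfl (icol_ge _ rfl)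
    [[2]]
    [([2, 3], []),
  ([3, 2], []),
  ([2, 2, 2, 2, 2, 2, 2], [([], 2)])]
    (by decide +kernel)
theorem bndG : Bnd RG 3 161280 :=
  Bnd.tc bndA (n := 2) (fun g ω => T54.ONh87p.enum g ω) (by decide) [0, 2, 3, 4] rfl (icol_ge _ rfl)
    [[0],
  [2]]
    [([2, 3], []),
  ([3, 2], []),
  ([4, 2, 4, 0, 2, 2, 2, 0, 3, 0, 3, 3, 0, 2, 0, 2, 0, 3, 0], [([], 35), ([4, 2, 4, 1, 2, 2, 2, 1, 3, 1, 3, 3, 1, 2, 1, 2, 1, 3], 1), ([4, 2, 4, 1, 2, 2, 2, 1, 3, 1, 3, 3, 1, 2, 1, 2], 1), ([4, 2, 4, 1, 2, 2, 2, 1, 3, 1, 3, 3, 1, 2], 1), ([4, 2, 4, 1, 2, 2, 2, 1, 3, 1, 3, 3], 1), ([4, 2, 4, 1, 2, 2, 2, 1, 3], 1), ([4, 2, 4, 1, 2, 2, 2], 1), ([4, 2, 4], 1)])]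
    (by decide +kernel)
theorem eqns_RecB : True := by
  have := @R7.eq_1
  have := @RA.eq_1
  have := @RB.eq_1
  have := @RG.eq_1
  trivial
end H87.ONR
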