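import Mathlib
import Cfsg.Agent.S2088
import Cfsg.Agent.Lib.Schur.Main
import Cfsg.Agent.Lib.ON.RecB
import Cfsg.Agent.Lib.ON.RecL

/-! The two groups 4.L3(4) on 224 points; every perfect group 4.L3(4) is one of them. -/

set_option autoImplicit false
set_option maxRecDepth 100000

namespace H87.ONR
open H54 hiding bnot bnot_eq_true In grp Enum Good
open H15 hiding allLt allLt_iff anyLt anyLt_iff
open H87.Mx H87.Tb MulAction Cfsg Subgroup
open scoped commutatorElement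

theorem mem_center_of_gen {G : Type*} [Group G] {x : ℕ → G} {m : ℕ} (h : gen x m = ⊤) {y : G}
    (c : ∀ i, i < m → x i * y = y * x i) : y ∈ center G :=
  mem_center_iff.2 fun g => mem_centralizer_singleton_iff.1
    (gen_le (K := centralizer {y}) (fun i hi => mem_centralizer_singleton_iff.2 (c i hi)) (h ▸ mem_top g))

theorem surj_of_gen {P G : Type*} [Group P] [Group G] (θ : P →* G) {x : ℕ → P} {y : ℕ → G} {m : ℕ}
    (h : ∀ i, i < m → θ (x i) = y i) (hy : gen y m = ⊤) : Function.Surjective θ :=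
  MonoidHom.range_eq_top.1 (top_le_iff.1 (hy ▸ gen_le fun i hi => ⟨x i, h i hi⟩))

/-- a model of a group 4.L3(4) -/
structure MX (R : List (List ℕ)) {P : Type} [Group P] [MulAction P (Fin 224)] (x : ℕ → P)
    (act : ℕ → ℕ → ℕ) (yw : List ℕ) (p : P →* M21) : Prop
    extends PM R 80640 x 2 224 (finPt 224) act [0, 4, 8] where
  px : ∀ i, i < 2 → p (x i) = l i
  ker : p.ker = zpowers (evW x yw)
  cen : evW x yw ∈ center P
  oy : orderOf (evW x yw) = 4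

theorem exists_mx {R : List (List ℕ)} {P : Type} [Group P] [Finite P] [MulAction P (Fin 224)] {x : ℕ → P}
    {act : ℕ → ℕ → ℕ} {yw : List ℕ} (M : PM R 80640 x 2 224 (finPt 224) act [0, 4, 8])
    (c1 : relsB actL 2 (List.range 24) (yw :: R) = true)
    (c2 : band (band (eqB act 2 [0, 4, 8] (0 :: yw) (yw ++ [0])) (eqB act 2 [0, 4, 8] (2 :: yw) (yw ++ [2])))
      (band (band (eqB act 2 [0, 4, 8] (powW yw 4) []) (neB act 2 [0, 4, 8] (powW yw 2) [])) (wf1 2 yw))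
      = true) : ∃ p, MX R x act yw p := by
  simp only [band_eq_true] at c2
  obtain ⟨⟨e1, e2⟩, ⟨e3, e4⟩, e5⟩ := c2
  have h := WL.rels c1
  obtain ⟨p, hp⟩ := M.hom (y := l) fun r hr => h r (List.mem_cons_of_mem _ hr)
  have o : orderOf (evW x yw) = 2 ^ (1 + 1) := orderOf_eq_prime_pow
    (by have := M.ne e4; rwa [evW_powW] at this) (by have := M.eq e3; rwa [evW_powW] at this)
  refine ⟨p, M, hp, (eq_of_le_of_card_ge (zpowers_le.2 ?_) ?_).symm, mem_center_of_gen M.gen_top ?_, o⟩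
  · rw [MonoidHom.mem_ker, map_evW_of p hp e5]; exact h _ List.mem_cons_self
  · have := card_mul_index p.ker
    rw [index_ker, MonoidHom.range_eq_top.2 (surj_of_gen p hp gen_l), card_top, card_M21, M.card] at this
    rw [Nat.card_zpowers, o]; omega
  · intro i hi
    interval_cases i
    · simpa [evW_append, xl] using M.eq e1
    · simpa [evW_append, xl] using M.eq e2

noncomputable def actA (k u : ℕ) : ℕ := d8 (sel (Nat.ble k 1) 0x8180838245444746a4a7a6a59a99989b0407060549484b4a70737271aaa9a8ab7477767519181b1a66656467b1b0b3b2888b8a89c0c3c2c1d6d5d4d79497969510131211d0d3d2d1a2a1a0a32b2a29288f8e8d8caeadacaf01000302dddcdfde5150535279787b7abebdbcbfc6c5c4c73f3e3d3c1e1d1c1fb4b7b6b5616063620a09080b232221200d0c0f0e7d7c7f7e4d4c4f4ec9c8cbcad9d8dbda353437366f6e6d6c3b3a393841404342151417162f2e2d2c93929190272625245b5a5958686b6a69b9b8bbba313033329e9d9c9f555457565c5f5e5dcecdcccf85848786 (sel (Nat.ble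 k 2) 0xcdcccfcea0a3a2a1dcdfdeddbdbcbfbe60636261a5a4a7a6dbdad9d8b5b4b7b685848786c6c5c4c77d7c7f7ed7d6d5d40a09080b55545756232221202b2a2928d0d3d2d194979695414043425d5c5f5e74777675c8cbcac9c0c3c2c1b9b8bbba9d9c9f9eaeadacafb0b3b2b10302010051505352a8abaaa969686b6a8d8c8f8e3a39383b989b9a9990939291888b8a898083828171707372787b7a791c1f1e1d6c6f6e6d6467666530333231585b5a5949484b4a4c4f4e4d444746453c3f3e3d343736352c2f2e2d2427262515141716181b1a19101312110c0f0e0d04070605 0xd6d5d4d7c7c6c5c4b3b2b1b09e9d9c9fdddcdfde8a89888bb8bbbab986858487d1d0d3d281808382c1c0c3c276757477787b7a796a69686bc9c8cbcadad9d8db7d7c7f7e5a59585b9a99989b565554576160636252515053bdbcbfbe4e4d4c4fb5b4b7b6464544478e8d8c8f49484b4a3e3d3c3f656467663a39383bcecdcccf9190939232313033a9a8abaa6d6c6f6e2a29282b2d2c2f2e2625242795949796222120235c5f5e5d1e1d1c1f363534371a19181ba3a2a1a016151417a7a6a5a4424140430e0d0c0f111013120a09080b06050407acafaead0201000373727170))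 u
noncomputable def actB (k u : ℕ) : ℕ := d8 (sel (Nat.ble k 1) 0x8a89888bb5b4b7b61d1c1f1e06050407c0c3c2c1b8bbbab975747776cecdcccf83828180cac9c8cbd9d8dbda7b7a7978afaeadac90939291a7a6a5a413121110262524272c2f2e2d41404342aaa9a8ab72717073dcdfdedd52515053bfbebdbc7f7e7d7cb3b2b1b0c5c4c7c68c8f8e8d585b5a5939383b3a4b4a494847464544161514176e6d6c6f55545756848786852b2a29286766656463626160959497963f3e3d3c69686b6a0a09080b313033329a99989b4f4e4d4c9c9f9e9d03020100d5d4d7d619181b1a5c5f5e5da3a2a1a00d0c0f0e34373635d0d3d2d123222120 (sel (Nat.ble k 2) 0xdad9d8db57565554444746454e4d4c4fc8cbcac9d6d5d4d7dddcdfdea8abaaa9c4c7c6c55d5c5f5ea0a3a2a19c9f9e9d080b0a09d1d0d3d2b3b2b1b0cdcccfce7d7c7f7ebebdbcbf1312111002010003676665643c3f3e3d989b9a99c1c0c3c28b8a8988b9b8bbbab5b4b7b635343736adacafaea5a4a7a67271707392919093959497968d8c8f8e85848786818083822b2a292879787b7a757477766d6c6f6e69686b6a61606362181b1a1959585b5a202322215150535249484b4a4140434239383b3a313033322d2c2f2e252427261d1c1f1e151417160d0c0f0e05040706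 0xc5c4c7c6dcdfdeddc8cbcac9a9a8abaaa1a0a3a2cecdcccfbebdbcbf81808382989b9a9979787b7a75747776a7a6a5a46d6c6f6ec2c1c0c369686b6ab6b5b4b7b2b1b0b3868584875d5c5f5e6063626159585b5a7f7e7d7c55545756515053529d9c9f9e49484b4a4544474664676665414043423d3c3f3e8f8e8d8c39383b3ab9b8bbba31303332dbdad9d829282b2ad0d3d2d125242726d6d5d4d7212023228a89888b1d1c1f1e7170737219181b1a151417164f4e4d4c111013122e2d2c2f0d0c0f0e3635343709080b0a9796959405040706aeadacaf0100030290939291)) u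
abbrev PA : Type := PG actA 2 224
abbrev PB : Type := PG actB 2 224
noncomputable abbrev xA : ℕ → PA := px actA 2 224
noncomputable abbrev xB : ℕ → PB := px actB 2 224
def yA : List ℕ := [2, 0, 2, 0, 2, 0, 2, 0, 2, 0]
def yB : List ℕ := [3, 3, 0, 3, 0, 2, 0, 3, 0, 2, 2, 0, 3, 0, 3, 0, 2, 2, 2, 0, 2, 2, 2, 0, 2, 0]
theorem pmA : PM RA 80640 xA 2 224 (finPt 224) actA [0, 4, 8] :=
  pm_perm bndA (by decide +kernel) (by decide +kernel) (L := [(0, 224, [[0],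
  [2]], [0xffe7fe799ff8fe7fe1fee1ffa7ff9eff, 0x9e069e181fe67ee7f8f989e7e1efe79, 0x78000606081e0198e01a181e7b9e1818, 0x800080018]),
  (4, 90, [[3, 3, 0, 2, 0, 2, 0],
  [2, 2, 2, 0, 3, 3, 3]], [0x8c5375dcd9359cdd77375dcdd8d5cdd7, 0x21089d5c]),
  (8, 4, [[2, 0, 3, 0, 2, 0, 3, 3, 0, 3, 3, 0, 2, 2, 0, 2, 2]], [7])])
    (by decide +kernel) (by decide +kernel)
theorem pmB : PM RB 80640 xB 2 224 (finPt 224) actB [0, 4, 8] :=
  pm_perm bndB (by decide +kernel) (by decide +kernel) (L := [(0, 224, [[0],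
  [2]], [0xff9f87f8e9ffe7e27fe1f9ffe7e79fff, 0x99f81ffe67e19986667f99e7e1fe3be9, 0x60000060880219987e27fe08780e, 0x602006000802180]),
  (4, 90, [[0, 2, 2, 0, 3, 0, 2, 0],
  [3, 0, 3, 3, 0, 2, 0, 2]], [0x640f8875298fe537cf7e3edef7e7fdff, 0x84010a8]),
  (8, 4, [[3, 3, 0, 2, 0, 3, 0, 3, 0, 2, 2, 0, 3, 0, 2, 0, 2, 0]], [7])])
    (by decide +kernel) (by decide +kernel)
theorem exA : ∃ p, MX RA xA actA yA p := exists_mx pmA (by decide +kernel) (by decide +kernel)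
theorem exB : ∃ p, MX RB xB actB yB p := exists_mx pmB (by decide +kernel) (by decide +kernel)
noncomputable def pA : PA →* M21 := exA.choose
noncomputable def pB : PB →* M21 := exB.choose
theorem mxA : MX RA xA actA yA pA := exA.choose_spec
theorem mxB : MX RB xB actB yB pB := exB.choose_spec

theorem schur21 : HasSchurMultiplier M21 (Multiplicative (ZMod 3 × ZMod 4 × ZMod 4)) :=
  H60.hasBic_of_bounds H15.card_M21 (ps := [2, 3]) (by decide +kernel) 3 4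
    (H60.forall_mem_two ⟨2, by decide, H60.M21.d2_exp, Or.inr (Or.inr ⟨by decide, H60.M21.d2_gen⟩)⟩
      ⟨1, by decide, H60.M21.d3_exp, Or.inr (Or.inl ⟨by decide, H60.M21.d3_gen⟩)⟩)
    (H60.LowB.mul (a := 3) (b := 16) (by decide) H60.M21.c3_low H60.M21.c2_low)

theorem evW_comm {A : Type*} [CommGroup A] (y : ℕ → A) : ∀ w : List ℕ, (∀ k ∈ w, k < 4) →
    evW y w = y 0 ^ w.count 0 * (y 0 ^ w.count 1)⁻¹ * (y 1 ^ w.count 2 * (y 1 ^ w.count 3)⁻¹)
  | [], _ => by simp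
  | k :: w, h => by
    rw [evW_cons, evW_comm y w fun j hj => h j (List.mem_cons_of_mem _ hj)]
    have := h k List.mem_cons_self
    interval_cases k <;> simp [xl, pow_succ, mul_comm, mul_left_comm, mul_assoc]

theorem evW_mem_commutator {G : Type*} [Group G] (y : ℕ → G) {w : List ℕ}
    (h : (∀ k ∈ w, k < 4) ∧ w.count 0 = w.count 1 ∧ w.count 2 = w.count 3) :
    evW y w ∈ commutator G := by
  rw [← Abelianization.ker_of, MonoidHom.mem_ker, map_evW, evW_comm _ _ h.1, h.2.1, h.2.2]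
  simp

/-- the word is trivial in both models -/
noncomputable def relU (r : List ℕ) : Bool := band (eqB actA 2 [0, 4, 8] r []) (eqB actB 2 [0, 4, 8] r [])
def CW : List (List ℕ) := [[0, 0, 2, 2, 0, 2, 2, 0, 2, 2, 0, 2, 2, 0, 2, 2, 0, 2, 2, 0, 2, 2, 0, 2, 2, 0, 2, 2, 0, 2, 2, 0, 2, 2, 0, 2, 2, 0, 2, 2, 0, 2, 2, 0, 2, 2, 0, 2, 2, 0, 2, 2, 0, 2, 2, 0, 2, 2, 0, 2, 2, 0, 2, 2, 0, 2, 2, 0, 2, 2, 0, 2, 2, 0, 2, 2, 0, 2, 2, 0, 2, 2, 0, 2, 2, 0, 2, 2, 0, 2, 2, 0, 2, 2, 0, 2, 2, 0, 2, 2, 0, 2, 2, 0, 2, 2, 1, 1, 1, 1, 1, 1, 1, 1, 1, 1, 1, 1, 1, 1, 1, 1, 1, 1, 1, 1, 1, 1, 1, 1, 1, 1, 1, 1, 1, 1, 1, 1, 1, 1, 1, 1, 3, 3, 3, 3, 3, 3, 3, 3, 3, 3, 3, 3, 3, 3, 3, 3, 3, 3, 3, 3, 3, 3, 3, 3, 3, 3, 3, 3, 3, 3, 3, 3, 3, 3, 3, 3, 3, 3, 3, 3, 3, 3, 3, 3, 3, 3, 3, 3, 3, 3, 3, 3, 3, 3, 3, 3, 3, 3, 3, 3, 3, 3, 3, 3, 3, 3, 3, 3, 3, 3],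
  [2, 0, 2, 2, 0, 2, 2, 0, 2, 2, 0, 2, 2, 0, 2, 2, 0, 2, 2, 0, 2, 2, 0, 2, 2, 0, 2, 2, 0, 2, 2, 1, 1, 1, 1, 1, 1, 1, 1, 1, 1, 3, 3, 3, 3, 3, 3, 3, 3, 3, 3, 3, 3, 3, 3, 3, 3, 3, 3, 3, 3, 3]]

theorem exists_lift {M : Type*} [Group M] [Finite M] (p : M →* M21) (hs : Function.Surjective p)
    (hc : p.ker ≤ center M) (h4 : ∀ z ∈ p.ker, z ^ 4 = 1) (hp : commutator M = ⊤) :
    ∃ m : ℕ → M, gen m 2 = ⊤ ∧ (∀ i, i < 2 → p (m i) = l i) ∧ ∀ r, relU r = true → evW m r = 1 := by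
  let π1 : M × PA × PB →* M := MonoidHom.fst _ _
  let π2 : M × PA × PB →* PA := (MonoidHom.fst _ _).comp (MonoidHom.snd _ _)
  let π3 : M × PA × PB →* PB := (MonoidHom.snd _ _).comp (MonoidHom.snd _ _)
  let W : Subgroup (M × PA × PB) :=
    (p.comp π1).eqLocus (pA.comp π2) ⊓ (p.comp π1).eqLocus (pB.comp π3)
  let ξ : W →* M21 := (p.comp π1).comp W.subtype
  have sA := surj_of_gen pA mxA.px gen_l
  have sB := surj_of_gen pB mxB.px gen_l
  have hW : ∀ w : W, p w.1.1 = pA w.1.2.1 ∧ p w.1.1 = pB w.1.2.2 := fun w => w.2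
  have hk : ∀ w : W, w ∈ ξ.ker → w.1.1 ∈ p.ker ∧ w.1.2.1 ∈ zpowers (evW xA yA) ∧
      w.1.2.2 ∈ zpowers (evW xB yB) := fun w hw =>
    ⟨hw, mxA.ker ▸ (hW w).1.symm.trans hw, mxB.ker ▸ (hW w).2.symm.trans hw⟩
  obtain ⟨q, hq⟩ := H78.Schur.exists_surjective_ker_inf schur21 ξ (fun g => by
    obtain ⟨a, ha⟩ := hs g
    obtain ⟨b, hb⟩ := sA g
    obtain ⟨c, hc⟩ := sB g
    exact ⟨⟨(a, b, c), ha.trans hb.symm, ha.trans hc.symm⟩, ha⟩) fun w hw =>
      mem_center_iff.2 fun g => Subtype.ext (Prod.ext (mem_center_iff.1 (hc (hk w hw).1) _)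
        (Prod.ext (mem_center_iff.1 (zpowers_le.2 mxA.cen (hk w hw).2.1) _)
          (mem_center_iff.1 (zpowers_le.2 mxB.cen (hk w hw).2.2) _)))
  have p4 : ∀ {G : Type} [Group G] {y g : G}, orderOf y = 4 → g ∈ zpowers y → g ^ 4 = 1 :=
    fun h hg => orderOf_dvd_iff_pow_eq_one.1 (h ▸ orderOf_dvd_of_mem_zpowers hg)
  have hsq : ∀ w : ↥(ξ.ker ⊓ commutator W), w ^ 4 = 1 := fun w =>
    Subtype.ext (Subtype.ext (Prod.ext (h4 _ (hk _ w.2.1).1)
      (Prod.ext (p4 mxA.oy (hk _ w.2.1).2.1) (p4 mxB.oy (hk _ w.2.1).2.2))))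
  have hcard : Nat.card ↥(ξ.ker ⊓ commutator W) ≤ 16 := by
    have h2 : Function.Surjective fun b : ZMod 4 × ZMod 4 => q (Multiplicative.ofAdd (0, b)) := fun x => by
      obtain ⟨a, rfl⟩ := hq x
      have h1 : ∀ a : ZMod 3 × ZMod 4 × ZMod 4, a = (0, a.2) + 4 • (a.1, 0) := by decide
      refine ⟨a.toAdd.2, ?_⟩
      conv_rhs => rw [← ofAdd_toAdd a, h1 a.toAdd, ofAdd_add, ofAdd_nsmul, map_mul, map_pow, hsq, mul_one]
    simpa using Nat.card_le_card_of_surjective _ h2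
  choose m0 hm0 using fun i => hs (l i)
  let w0 : ℕ → W := fun i => if h : i < 2 then
    ⟨(m0 i, xA i, xB i), (hm0 i).trans (mxA.px i h).symm, (hm0 i).trans (mxB.px i h).symm⟩ else 1
  let w : ℕ → W := fun i => evW w0 (nthW CW i)
  have a0 : ∀ i, i < 2 → (π2.comp W.subtype) (w0 i) = xA i ∧ (π3.comp W.subtype) (w0 i) = xB i :=
    fun i hi => by simp only [w0, dif_pos hi]; exact ⟨rfl, rfl⟩
  have ck : ∀ i, i < 2 → (band (eqB actA 2 [0, 4, 8] (nthW CW i) [2 * i])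
      (band (eqB actB 2 [0, 4, 8] (nthW CW i) [2 * i]) (wf1 2 (nthW CW i))) = true) ∧
      (∀ k ∈ nthW CW i, k < 4) ∧ (nthW CW i).count 0 = (nthW CW i).count 1 ∧
        (nthW CW i).count 2 = (nthW CW i).count 3 := by decide +kernel
  have a1 : ∀ i, i < 2 → (π2.comp W.subtype) (w i) = xA i ∧ (π3.comp W.subtype) (w i) = xB i :=
    fun i hi => by
      have c := (ck i hi).1
      simp only [band_eq_true] at c
      exact ⟨(map_evW_of _ (fun i hi => (a0 i hi).1) c.2.2).trans (by simpa [xl_even] using mxA.eq c.1),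
        (map_evW_of _ (fun i hi => (a0 i hi).2) c.2.2).trans (by simpa [xl_even] using mxB.eq c.2.1)⟩
  have ev : ∀ r, wf1 2 r = true → evW w r ∈ commutator W ∧ (evW w r).1.2.1 = evW xA r ∧
      (evW w r).1.2.2 = evW xB r := fun r hr =>
    ⟨gen_le (fun i hi => evW_mem_commutator w0 (ck i hi).2) (evW_mem_gen w (wf1_spec hr)),
      map_evW_of _ (fun i hi => (a1 i hi).1) hr, map_evW_of _ (fun i hi => (a1 i hi).2) hr⟩
  have cz : band (band (wf1 2 yA) (wf1 2 yB))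
      (band (eqB actB 2 [0, 4, 8] yA []) (eqB actA 2 [0, 4, 8] yB [])) = true := by decide +kernel
  simp only [band_eq_true] at cz
  obtain ⟨u1, u2, u3⟩ := ev _ cz.1.1
  obtain ⟨v1, v2, v3⟩ := ev _ cz.1.2
  replace u3 := u3.trans ((mxB.eq cz.2.1).trans (evW_nil _))
  replace v2 := v2.trans ((mxA.eq cz.2.2).trans (evW_nil _))
  have k2 : ∀ a : W, a.1.2.1 = 1 → a ∈ ξ.ker := fun a e => (hW a).1.trans (by rw [e, map_one])
  have k3 : ∀ a : W, a.1.2.2 = 1 → a ∈ ξ.ker := fun a e => (hW a).2.trans (by rw [e, map_one])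
  let u : ↥(ξ.ker ⊓ commutator W) := ⟨evW w yA, k3 _ u3, u1⟩
  let v : ↥(ξ.ker ⊓ commutator W) := ⟨evW w yB, k2 _ v2, v1⟩
  let g : Fin 4 × Fin 4 → ↥(ξ.ker ⊓ commutator W) := fun i => u ^ i.1.1 * v ^ i.2.1
  have gv : ∀ i, (g i).1.1.2.1 = evW xA yA ^ i.1.1 ∧ (g i).1.1.2.2 = evW xB yB ^ i.2.1 := fun i => by
    simp [g, u, v, u2, u3, v2, v3]
  have gi : ∀ i j, (g i).1.1.2 = (g j).1.1.2 → i = j := fun i j e =>
    Prod.ext (Fin.ext (pow_injOn_Iio_orderOf (by rw [mxA.oy]; exact i.1.2) (by rw [mxA.oy]; exact j.1.2)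
        ((gv i).1.symm.trans ((congrArg Prod.fst e).trans (gv j).1))))
      (Fin.ext (pow_injOn_Iio_orderOf (by rw [mxB.oy]; exact i.2.2) (by rw [mxB.oy]; exact j.2.2)
        ((gv i).2.symm.trans ((congrArg Prod.snd e).trans (gv j).2))))
  have gs : Function.Surjective g := ((Nat.bijective_iff_injective_and_card g).2
    ⟨fun i j e => gi i j (by rw [e]), le_antisymm (Nat.card_le_card_of_injective g
      fun i j e => gi i j (by rw [e])) (by simpa using hcard)⟩).2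
  have hm : ∀ i, i < 2 → p (w i).1.1 = l i := fun i hi =>
    (hW _).1.trans ((congrArg pA (a1 i hi).1).trans (mxA.px i hi))
  refine ⟨fun i => (w i).1.1, top_le_iff.1 (hp ▸ commutator_le.2 fun a _ b _ => ?_), hm, fun r hr => ?_⟩
  · have dec : ∀ a : M, ∃ h ∈ gen (fun i => (w i).1.1) 2, h⁻¹ * a ∈ center M := fun a => by
      have : p a ∈ (gen (fun i => (w i).1.1) 2).map p := by
        rw [map_gen, gen_congr hm, gen_l]; trivial
      obtain ⟨h, hh, e⟩ := this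
      exact ⟨h, hh, hc (by rw [MonoidHom.mem_ker, map_mul, map_inv, e, inv_mul_cancel])⟩
    obtain ⟨h, hh, hz⟩ := dec a
    obtain ⟨k, hk, kz⟩ := dec b
    obtain ⟨y, rfl⟩ : ∃ y, a = h * y := ⟨h⁻¹ * a, by group⟩
    obtain ⟨z, rfl⟩ : ∃ z, b = k * z := ⟨k⁻¹ * b, by group⟩
    rw [inv_mul_cancel_left, mem_center_iff] at hz kz
    rw [show ⁅h * y, k * z⁆ = h * k * h⁻¹ * k⁻¹ by
      rw [commutatorElement_def, mul_inv_rev, mul_inv_rev, mul_assoc h, ← hz (k * z)]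
      calc _ = h * (k * (z * h⁻¹)) * z⁻¹ * k⁻¹ := by group
        _ = _ := by rw [← kz h⁻¹]; group]
    exact mul_mem (mul_mem (mul_mem hh hk) (inv_mem hh)) (inv_mem hk)
  · simp only [relU, band_eq_true] at hr
    have hw : wf1 2 r = true := by have := hr.1; simp only [eqB, band_eq_true] at this; exact this.1
    obtain ⟨r1, r2, r3⟩ := ev r hw
    replace r2 := r2.trans ((mxA.eq hr.1).trans (evW_nil _))
    replace r3 := r3.trans ((mxB.eq hr.2).trans (evW_nil _))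
    obtain ⟨i, hi⟩ := gs ⟨evW w r, k2 _ r2, r1⟩
    obtain rfl : i = (0, 0) := gi _ _ (by
      rw [hi]; exact Prod.ext (r2.trans (gv (0, 0)).1.symm) (r3.trans (gv (0, 0)).2.symm))
    have : evW w r = 1 := by
      have := congrArg Subtype.val hi
      simpa [g] using this.symm
    exact (map_evW (π1.comp W.subtype) w r).symm.trans (by rw [this, map_one])

/-- new generators `ρ` satisfy `R` when `κ` is trivial -/
noncomputable def kerC (R : List (List ℕ)) (κ : List ℕ) (ρ σ : List (List ℕ)) : Bool :=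
  band (allL (fun r => anyLt (fun e => relU (subW ρ r ++ powW κ e)) 4) R)
    (allLt (fun i => band (wf1 2 (nthW σ i)) (relU (subW ρ (nthW σ i) ++ [Nat.succ (Nat.mul 2 i)]))) 2)

theorem of_kerC {M : Type*} [Group M] {m : ℕ → M} (hg : gen m 2 = ⊤)
    (h : ∀ r, relU r = true → evW m r = 1) {R : List (List ℕ)} {κ : List ℕ} (ρ σ : List (List ℕ))
    (c : kerC R κ ρ σ = true) (hκ : evW m κ = 1) : ∃ m' : ℕ → M, gen m' 2 = ⊤ ∧ Rels R m' := by
  simp only [kerC, band_eq_true, allL_iff, anyLt_iff, allLt_iff] at c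
  refine ⟨fun i => evW m (nthW ρ i), top_le_iff.1 (hg ▸ gen_le fun i hi => ?_), fun r hr => ?_⟩
  · have := h _ (c.2 i hi).2
    rw [evW_append, evW_subW, evW_cons, evW_nil, mul_one, show Nat.succ (Nat.mul 2 i) = 2 * i + 1 from rfl,
      xl_odd, mul_inv_eq_one] at this
    exact this ▸ evW_mem_gen _ (wf1_spec (c.2 i hi).1)
  · obtain ⟨e, -, he⟩ := c.1 r hr
    have := h _ he
    rwa [evW_append, evW_subW, evW_powW, hκ, one_pow, mul_one] at this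

theorem exists_gens {M : Type*} [Group M] [Finite M] (p : M →* M21) (hs : Function.Surjective p)
    (hc : p.ker ≤ center M) (hcyc : IsCyclic p.ker) (h4 : Nat.card p.ker = 4) (hp : commutator M = ⊤) :
    ∃ m : ℕ → M, gen m 2 = ⊤ ∧ (Rels RA m ∨ Rels RB m) := by
  have h4' : ∀ z ∈ p.ker, z ^ 4 = 1 := fun z hz =>
    congrArg Subtype.val (h4 ▸ pow_card_eq_one' (x := (⟨z, hz⟩ : p.ker)))
  obtain ⟨m, hg, hm, h⟩ := exists_lift p hs hc h4' hp
  obtain ⟨g, hgen⟩ := IsCyclic.exists_monoid_generator (α := p.ker)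
  have hk : ∀ {w : List ℕ}, band (wf1 2 w) (eqB actL 2 (List.range 24) w []) = true →
      ∃ u, u < 4 ∧ evW m w = (g : M) ^ u := fun {w} c => by
    rw [band_eq_true] at c
    obtain ⟨u, hu⟩ := hgen ⟨evW m w, (map_evW_of p hm c.1).trans (WL.eq c.2)⟩
    exact ⟨u % 4, Nat.mod_lt _ (by decide), by
      rw [← pow_eq_pow_mod _ (h4' _ g.2)]; exact (congrArg Subtype.val hu).symm⟩
  obtain ⟨u, hu, eu⟩ := hk (w := yB) (by decide +kernel)
  obtain ⟨v, hv, ev⟩ := hk (w := yA) (by decide +kernel)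
  have key : ∀ a b : ℕ, (u * a + v * b) % 4 = 0 → evW m (powW yB a ++ powW yA b) = 1 := fun a b e => by
    rw [evW_append, evW_powW, evW_powW, eu, ev, ← pow_mul, ← pow_mul, ← pow_add,
      pow_eq_pow_mod _ (h4' _ g.2), e, pow_zero]
  have cs : (u * 1 + v * 0) % 4 = 0 ∨ (u * 0 + v * 1) % 4 = 0 ∨ (u * 1 + v * 1) % 4 = 0 ∨
      (u * 1 + v * 3) % 4 = 0 ∨ (u * 2 + v * 1) % 4 = 0 ∨ (u * 1 + v * 2) % 4 = 0 := by
    interval_cases u <;> interval_cases v <;> decide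
  rcases cs with e | e | e | e | e | e
  · obtain ⟨m', h1, h2⟩ := of_kerC hg h (R := RA) [[0],
  [2]] [[0],
  [2]] (by decide +kernel) (key _ _ e)
    exact ⟨m', h1, .inl h2⟩
  · obtain ⟨m', h1, h2⟩ := of_kerC hg h (R := RB) [[0],
  [2]] [[0],
  [2]] (by decide +kernel) (key _ _ e)
    exact ⟨m', h1, .inr h2⟩
  · obtain ⟨m', h1, h2⟩ := of_kerC hg h (R := RB) [[2, 0, 2, 2, 0, 3, 3, 0, 2, 0, 3, 0, 2, 0, 2, 0],
  [2]] [[3, 0, 3, 3, 0, 2, 2, 0, 3, 0, 2, 0, 3, 0, 3, 0],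
  [2]] (by decide +kernel) (key _ _ e)
    exact ⟨m', h1, .inr h2⟩
  · obtain ⟨m', h1, h2⟩ := of_kerC hg h (R := RA) [[0],
  [3]] [[0],
  [3]] (by decide +kernel) (key _ _ e)
    exact ⟨m', h1, .inl h2⟩
  · obtain ⟨m', h1, h2⟩ := of_kerC hg h (R := RA) [[2, 0, 2, 2, 0, 3, 3, 0, 2, 0, 3, 0, 2, 0, 2, 0],
  [2]] [[3, 0, 3, 3, 0, 2, 2, 0, 3, 0, 2, 0, 3, 0, 3, 0],
  [2]] (by decide +kernel) (key _ _ e)
    exact ⟨m', h1, .inl h2⟩
  · obtain ⟨m', h1, h2⟩ := of_kerC hg h (R := RB) [[2, 2, 2, 0, 2, 2, 2, 0, 3, 0, 3, 3, 3, 0, 3, 0],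
  [3]] [[2, 2, 0, 3, 0, 3, 3, 3, 0, 3, 0, 2, 2, 2, 0, 2],
  [3]] (by decide +kernel) (key _ _ e)
    exact ⟨m', h1, .inr h2⟩

theorem eqns_RecM : True := by
  have := @actA.eq_1
  have := @actB.eq_1
  have := @yA.eq_1
  have := @yB.eq_1
  have := @pA.eq_1
  have := @pB.eq_1
  have := @relU.eq_1
  have := @CW.eq_1
  have := @kerC.eq_1
  trivial

end H87.ONR
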