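import Cfsg.Prelude.Def_Spor_ON
import Cfsg.Agent.Lib.CGT.Pres
import Cfsg.Agent.Lib.ON.TC1
import Cfsg.Agent.Lib.ON.TC
/-! The order of the presented O'Nan group is at most 460815505920.
Letters: `2i` = generator number `i`, `2i+1` = its inverse; generators g a b c d e f. -/
set_option autoImplicit false
set_option maxRecDepth 100000
namespace H87.ON
open H54 Cfsg.Spor
def R : List (List ℕ) := [[2, 2],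
  [2, 4, 2, 4, 2, 4],
  [2, 6, 2, 6],
  [2, 8, 2, 8],
  [2, 10, 2, 10],
  [2, 12, 2, 12],
  [4, 4],
  [4, 6, 4, 6, 4, 6],
  [4, 8, 4, 8],
  [4, 10, 4, 10],
  [4, 12, 4, 12],
  [6, 6],
  [6, 8, 6, 8, 6, 8, 6, 8, 6, 8, 6, 8, 6, 8, 6, 8],
  [6, 10, 6, 10],
  [6, 12, 6, 12],
  [8, 8],
  [8, 10, 8, 10, 8, 10],
  [8, 12, 8, 12],
  [10, 10],
  [10, 12, 10, 12, 10, 12],
  [12, 12],
  [2, 12, 1, 1],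
  [2, 12, 8, 6, 8, 6, 8, 6, 8, 6],
  [6, 1, 8, 1, 8, 6, 8, 0, 8, 0],
  [8, 1, 6, 1, 6, 8, 6, 0, 6, 0],
  [4, 6, 8, 0, 4, 6, 8, 0, 4, 6, 8, 0, 4, 6, 8, 0, 4, 6, 8, 0],
  [0, 4, 6, 0, 6, 4, 0, 4, 6, 0, 6],
  [0, 10, 8, 0, 8, 10, 0, 10, 8, 0, 8]]
def R6 : List (List ℕ) := [[0, 0],
  [0, 2, 0, 2, 0, 2],
  [0, 4, 0, 4],
  [0, 6, 0, 6],
  [0, 8, 0, 8],
  [0, 10, 0, 10],
  [2, 2],
  [2, 4, 2, 4, 2, 4],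
  [2, 6, 2, 6],
  [2, 8, 2, 8],
  [2, 10, 2, 10],
  [4, 4],
  [4, 6, 4, 6, 4, 6, 4, 6, 4, 6, 4, 6, 4, 6, 4, 6],
  [4, 8, 4, 8],
  [4, 10, 4, 10],
  [6, 6],
  [6, 8, 6, 8, 6, 8],
  [6, 10, 6, 10],
  [8, 8],
  [8, 10, 8, 10, 8, 10],
  [10, 10],
  [0, 10, 6, 4, 6, 4, 6, 4, 6, 4]]
def R5 : List (List ℕ) := [[0, 0],
  [0, 2, 0, 2, 0, 2],
  [0, 4, 0, 4],
  [0, 6, 0, 6],
  [0, 8, 0, 8],
  [2, 2],
  [2, 4, 2, 4, 2, 4],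
  [2, 6, 2, 6],
  [2, 8, 2, 8],
  [4, 4],
  [4, 6, 4, 6, 4, 6, 4, 6, 4, 6, 4, 6, 4, 6, 4, 6],
  [4, 8, 4, 8],
  [6, 6],
  [6, 8, 6, 8],
  [8, 8],
  [0, 8, 6, 4, 6, 4, 6, 4, 6, 4]]
def R3 : List (List ℕ) := [[0, 0],
  [0, 2, 0, 2, 0, 2],
  [0, 4, 0, 4],
  [2, 2],
  [2, 4, 2, 4, 2, 4],
  [4, 4]]
def RC : List (List ℕ) := [[2, 2],
  [2, 4, 2, 4, 2, 4],
  [2, 6, 2, 6],
  [2, 8, 2, 8],
  [2, 10, 2, 10],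
  [4, 4],
  [4, 6, 4, 6, 4, 6],
  [4, 8, 4, 8],
  [4, 10, 4, 10],
  [6, 6],
  [6, 8, 6, 8, 6, 8, 6, 8, 6, 8, 6, 8, 6, 8, 6, 8],
  [6, 10, 6, 10],
  [8, 8],
  [8, 10, 8, 10],
  [10, 10],
  [2, 10, 1, 1],
  [2, 10, 8, 6, 8, 6, 8, 6, 8, 6],
  [6, 1, 8, 1, 8, 6, 8, 0, 8, 0],
  [8, 1, 6, 1, 6, 8, 6, 0, 6, 0],
  [4, 6, 8, 0, 4, 6, 8, 0, 4, 6, 8, 0, 4, 6, 8, 0, 4, 6, 8, 0],
  [0, 4, 6, 0, 6, 4, 0, 4, 6, 0, 6],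
  [8, 0, 8, 1, 8, 0, 8, 1, 10]]
def RA : List (List ℕ) := [[2, 2],
  [2, 4, 2, 4],
  [2, 6, 2, 6],
  [2, 8, 2, 8],
  [4, 4],
  [4, 6, 4, 6, 4, 6, 4, 6, 4, 6, 4, 6, 4, 6, 4, 6],
  [4, 8, 4, 8],
  [6, 6],
  [6, 8, 6, 8],
  [8, 8],
  [2, 8, 1, 1],
  [2, 8, 6, 4, 6, 4, 6, 4, 6, 4],
  [4, 1, 6, 1, 6, 4, 6, 0, 6, 0],
  [6, 1, 4, 1, 4, 6, 4, 0, 4, 0],
  [4, 0, 4, 1, 4, 0, 4, 1, 2],
  [6, 0, 6, 1, 6, 0, 6, 1, 8]]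
theorem bnd3 : Bnd R3 3 24 :=
  Bnd.tc (bnd_zero []) (n := 24) (fun g ω => T54.ONh87a.enum g ω) (by decide) [0, 2, 4] rfl (fun _ h => h)
    []
    []
    (by decide +kernel)
theorem bnd5 : Bnd R5 5 672 :=
  Bnd.tc bnd3 (n := 28) (fun g ω => T54.ONh87b.enum g ω) (by decide) [0, 2, 4, 6, 8] rfl (fun _ h => h)
    [[0],
  [2],
  [4]]
    []
    (by decide +kernel)
theorem bndC : Bnd RC 6 161280 :=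
  Bnd.tc bnd5 (n := 240) (fun g ω => T54.ONh87c.enum g ω) (by decide) [0, 1, 2, 4, 6, 8, 10] rfl (icol_ge _ rfl)
    [[2],
  [4],
  [6],
  [8],
  [10]]
    [([0, 1], []),
  ([1, 0], [])]
    (by decide +kernel)
theorem bndA : Bnd RA 5 256 :=
  Bnd.tc (bnd_zero []) (n := 256) (fun g ω => T54.ONh87e.enum g ω) (by decide) [0, 1, 2, 4, 6, 8] rfl (icol_ge _ rfl)
    []
    [([0, 1], []),
  ([1, 0], [])]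
    (by decide +kernel)
theorem bnd6 : Bnd R6 6 3753792 :=
  Bnd.tc bnd5 (n := 5586) (fun g ω => T54.ONh87d.enum g ω) (by decide) [0, 2, 4, 6, 8, 10] rfl (fun _ h => h)
    [[0],
  [2],
  [4],
  [6],
  [10]]
    []
    (by decide +kernel)
def E7 : List (List ℕ) := [[2],
  [4],
  [6],
  [8],
  [10],
  [12]]
def cm : List ℕ := [0, 1, 2, 4, 6, 8, 10, 12]
theorem en : Enum H18.ONTC.icol 8 H18.ONTC.rels H18.ONTC.subs 122760 H18.ONTC.tab := fun g ω => H18.ONTC.enum g ω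
theorem imp_tc : Imp R (tcRels H18.ONTC.icol cm H18.ONTC.rels) := Imp.dv
  [([0, 1], []),
  ([1, 0], [])]
  (by decide +kernel)
theorem imp6 : Imp R (R6.map (subW E7)) := Imp.dv
  []
  (by decide +kernel)
theorem bnd : Bnd R 7 460815505920 :=
  Bnd.tc bnd6 (n := 122760) en (by decide) cm rfl (icol_ge _ rfl) E7
    [([0, 1], []),
  ([1, 0], [])]
    (by decide +kernel)
def gens : List ON.Gen := [.g, .a, .b, .c, .d, .e, .f]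
theorem mem_gens (y : ON.Gen) : y ∈ gens := by cases y <;> decide
/-- the generators -/
abbrev x : ℕ → ON := cgen gens ON.edges ON.extra
theorem pres : Pres R 7 ON x := pres_of_dv mem_gens (by decide)
  (L := [([2, 12, 8, 6, 8, 6, 8, 6, 8, 6], [([], 75), ([2, 12, 9, 7, 9, 7, 9, 7, 9], 29), ([2, 12, 9, 7, 9, 7, 9, 7], 43), ([2, 12, 9, 7, 9, 7, 9], 29), ([2, 12, 9, 7, 9, 7], 43), ([2, 12, 9, 7, 9], 29), ([2, 12, 9, 7], 43), ([2, 12, 9], 29), ([2, 12], 43)]),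
  ([6, 1, 8, 1, 8, 6, 8, 0, 8, 0], [([], 77), ([6, 1, 9, 1], 43), ([6, 1], 43)]),
  ([8, 1, 6, 1, 6, 8, 6, 0, 6, 0], [([], 79), ([8, 1, 7, 1], 29), ([8, 1], 29)]),
  ([0, 4, 6, 0, 6, 4, 0, 4, 6, 0, 6], [([], 83), ([0, 4, 7, 0, 6, 5, 0, 4], 29), ([0, 4, 7, 0, 6], 15), ([0, 4], 29)]),
  ([0, 10, 8, 0, 8, 10, 0, 10, 8, 0, 8], [([], 85), ([0, 10, 9, 0, 8, 11, 0, 10], 43), ([0, 10, 9, 0, 8], 57), ([0, 10], 43)])])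
  (L' := [([4, 2, 4, 2, 4, 2], [([3], 3)]),
  ([6, 2, 6, 2], [([3], 5)]),
  ([6, 4, 6, 4, 6, 4], [([5], 15)]),
  ([8, 2, 8, 2], [([3], 7)]),
  ([8, 4, 8, 4], [([5], 17)]),
  ([8, 6, 8, 6, 8, 6, 8, 6, 8, 6, 8, 6, 8, 6, 8, 6], [([7], 25)]),
  ([10, 2, 10, 2], [([3], 9)]),
  ([10, 4, 10, 4], [([5], 19)]),
  ([10, 6, 10, 6], [([7], 27)]),
  ([10, 8, 10, 8, 10, 8], [([9], 33)]),
  ([12, 2, 12, 2], [([3], 11)]),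
  ([12, 4, 12, 4], [([5], 21)]),
  ([12, 6, 12, 6], [([7], 29)]),
  ([12, 8, 12, 8], [([9], 35)]),
  ([12, 10, 12, 10, 12, 10], [([11], 39)]),
  ([2, 12, 9, 7, 9, 7, 9, 7, 9, 7], [([6, 8, 6, 8, 6, 8, 6], 30), ([6, 8, 6, 8, 6, 8], 22), ([6, 8, 6, 8, 6], 30), ([6, 8, 6, 8], 22), ([6, 8, 6], 30), ([6, 8], 22), ([6], 30), ([], 22), ([], 45)]),
  ([6, 1, 9, 1, 9, 6, 8, 0, 8, 0], [([1, 9, 1, 9, 7, 8, 0], 30), ([1, 9, 1, 9, 7], 30), ([], 47)]),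
  ([8, 1, 7, 1, 7, 8, 6, 0, 6, 0], [([1, 7, 1, 7, 9, 6, 0], 22), ([1, 7, 1, 7, 9], 22), ([], 49)]),
  ([0, 4, 7, 0, 6, 5, 0, 4, 7, 0, 6], [([7, 1, 6, 5, 1, 4, 7, 1], 22), ([7, 1, 6, 5, 1], 12), ([7, 1], 22), ([], 53)]),
  ([0, 10, 9, 0, 8, 11, 0, 10, 9, 0, 8], [([9, 1, 8, 11, 1, 10, 9, 1], 30), ([9, 1, 8, 11, 1], 36), ([9, 1], 30), ([], 55)])])
  (by decide +kernel)
end H87.ON
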