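import Cfsg.Agent.Lib.CosetEnum.TC
set_option autoImplicit false
set_option maxRecDepth 100000
namespace T54.ONh87i
open H54 (Tr force band)
open H18.TC
noncomputable def T_0 : Tr := (.node (nat_lit 2) (.node (nat_lit 0) (.leaf (nat_lit 0x18a1b913fc0000000e2b000057a00000000072a7f12e8aef0000ced8d6c43f0000000000217f0000000000000000005b80ef837d018a0fc09f5abd647c00044982fe00000000072bbe07f94a35695de524c417d8a7225c000213e0aeda1d5e8199e429c1bc00000ff003abff08f10283ea4f2a22c833b01fc3fa000000014e08331ed07351ad847904f40be)) (.node (nat_lit 1) (.leaf (nat_lit 0x15000000009f50000a330000000000000000a9dbd25c80000001b2023f0000000000000a9cbb26c40005c85b9f21f8000000000001529f400007ff0000a7000000000000000011aabf00000001dfc0000000000000000000e27763aac00000006ff0000c6d000000000aa9398f6c000000000019fe7ad00000000002a3e00000000000000000000018e05f9)) (.leaf (nat_lit 0x15157c508cffe4994000000000000000000119cea00000003df8000000189f000000000e20bb00000000000efe0000000000000000721ed39d40000000df80000dac0000000018800034b40000000d7a00000000000000015297f0000beea3b8cb99b5cc35000000000e29b400000000000b6f0000bb0000000001500000000ab900000009168b330000000))))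 (.node (nat_lit 3) (.leaf (nat_lit 0x119e6200000005df5b7100017e50000000018a07e5a89f625bc9e3b000000000000000119ffc0001fa157c5f3d5895ee5000000001194fe4fa147c4e900000000000000000000e15294c9400000012a60000000000000000e203d4d9000048a11a75988000000000000a9c7e459dae700012e443edc32000000000a9d3c000000000011e541f40000000000)) (.node (nat_lit 4) (.leaf (nat_lit 0xaa8ad000000099680009764000000000000e0000000000096be51b9860000000000000aa86e000249b000000090bc000000000000aa7ed8eda4da00025598ce40000000000003ab7f00000000000000000000088f22fc0151a7b00019fd00000000000000000000000e1ea20000000000197d000000000000000189d61608000063edbf200018690000000)) (.leaf (nat_lit 0xaab3f00000000000000ab70000000000000aa839000000000027189ab40000000000)))))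
noncomputable def J_0 : Tr := (.node (nat_lit 2) (.node (nat_lit 0) (.leaf (nat_lit 0x148720040040000000000000000000000000200000000001040100000400000000000000000000001001000000000002200a000000000000000000000000000000000000402002010230080080444800000000000000000000400000000008c80200000800000010ba00861000000020020100b00000084394000000000000000000000000000000000000004004020a600000000000000000000000000000000040040000000000000000000000000000000000000000000000000000)) (.node (nat_lit 1) (.leaf (nat_lit 0x200200000000008000000000000000000001a4c50000020000000000000008020020000000000000001921c8000000000000000002016010010000000000000000912a500000004004000000000000000000000000000000000821800000000000100100000000000000000000000000000018000000000000000004004000000000000000000000020660000000000000000000000100100829000000000000103b000000000000000000000000000000000000201001)) (.leaf (nat_lit 0x70952800000020020000000000000000000000000000000324710000000000000800800000000000000000000000001a2628000000000000000002002000000000000000000000391c40000180000000000000040000000400400000000000000000400400000000000000180000000000000000000012439000000010010089d0000040000000002000000000012246800000000000000000200200000000018000000000000000000000040040000000000000000000080000000000))))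 (.node (nat_lit 3) (.leaf (nat_lit 0x8098a0000000000001001000000000000000800000000003a4a90020020101300001004408000000000000000000000020360000000000004004021f4000010087d00000000000000010000280000802002000000000000000000000000007091a0000100000000000008008000000000000000000003a439000000000000000080400400000000000000000000000006000010000080000000000010010080980000000000c92a4000000000000000000000008008000000000000000)) (.node (nat_lit 4) (.leaf (nat_lit 0xa08e20000000000000003000000040040000000000000000000000000000000008018040040000000000000000000024254800000000008000000000001001000000000000000051315008018000000000000000008008000000000000000a48aa00000000000000000000000000000000010010000000402c000000100100000000000000000000000000000000e238a000000000000000002002000000000000000000000692350080080000000004000000000000400c0000000000)) (.leaf (nat_lit 0x209600000000000000000000001001000000000000000121155000000000000000000005008008000000000000000)))))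
noncomputable def F_0 : Tr := (.node (nat_lit 3) (.node (nat_lit 1) (.node (nat_lit 0) (.leaf (nat_lit 0)) (.leaf (nat_lit 0))) (.node (nat_lit 2) (.leaf (nat_lit 0)) (.leaf (nat_lit 0)))) (.node (nat_lit 5) (.node (nat_lit 4) (.leaf (nat_lit 0)) (.leaf (nat_lit 0))) (.node (nat_lit 6) (.leaf (nat_lit 0)) (.leaf (nat_lit 0)))))
noncomputable def T : Tr := T_0
noncomputable def J : Tr := J_0
noncomputable def F : Tr := F_0
noncomputable def row (u : ℕ) : ℕ := Nat.land (Nat.shiftRight (force (Nat.shiftRight u (nat_lit 3)) T.get) (Nat.mul (Nat.land u (nat_lit 7)) (nat_lit 140))) (nat_lit 0xfffffffffffffffffffffffffffffffffff)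
noncomputable def jrow (u : ℕ) : ℕ := Nat.land (Nat.shiftRight (force (Nat.shiftRight u (nat_lit 3)) J.get) (Nat.mul (Nat.land u (nat_lit 7)) (nat_lit 189))) (nat_lit 0x1fffffffffffffffffffffffffffffffffffffffffffffff)
noncomputable def fget (k fx : ℕ) : ℕ := F.get (Nat.add k fx)
noncomputable def wt0 : LT := (.leaf 0 0 [])
noncomputable def wt1 : LT := (.node (nat_lit 1) (.node (nat_lit 0) (.leaf 43 1 [nat_lit 0, nat_lit 98, nat_lit 28])
(.leaf 43 2 [nat_lit 98, nat_lit 28, nat_lit 0]))
(.leaf 0 0 []))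
noncomputable def wt2 : LT := (.node (nat_lit 3) (.node (nat_lit 0) (.leaf 11 0 [nat_lit 98, nat_lit 28, nat_lit 98])
(.node (nat_lit 1) (.leaf 9 0 [nat_lit 84, nat_lit 28, nat_lit 84])
(.node (nat_lit 2) (.leaf 5 0 [nat_lit 56, nat_lit 28, nat_lit 56])
(.leaf 7 0 [nat_lit 70, nat_lit 28, nat_lit 70]))))
(.leaf 0 0 []))
noncomputable def wt3 : LT := (.node (nat_lit 0) (.leaf 17 0 [nat_lit 70, nat_lit 42, nat_lit 70])
(.leaf 0 0 []))
noncomputable def wt4 : LT := (.node (nat_lit 4) (.node (nat_lit 1) (.node (nat_lit 0) (.leaf 27 0 [nat_lit 84, nat_lit 56, nat_lit 84])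
(.leaf 57 4 [nat_lit 42, nat_lit 28, nat_lit 98, nat_lit 84, nat_lit 70]))
(.node (nat_lit 2) (.leaf 29 0 [nat_lit 98, nat_lit 56, nat_lit 98])
(.node (nat_lit 3) (.leaf 5 3 [nat_lit 28, nat_lit 56, nat_lit 28])
(.leaf 15 5 [nat_lit 42, nat_lit 56, nat_lit 42, nat_lit 56, nat_lit 42]))))
(.leaf 0 0 []))
noncomputable def wt5 : LT := (.node (nat_lit 2) (.node (nat_lit 0) (.leaf 57 3 [nat_lit 56, nat_lit 42, nat_lit 28, nat_lit 98, nat_lit 84])
(.node (nat_lit 1) (.leaf 35 0 [nat_lit 98, nat_lit 70, nat_lit 98])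
(.leaf 17 3 [nat_lit 42, nat_lit 70, nat_lit 42])))
(.leaf 0 0 []))
noncomputable def wt6 : LT := (.node (nat_lit 2) (.node (nat_lit 0) (.leaf 19 3 [nat_lit 42, nat_lit 84, nat_lit 42])
(.node (nat_lit 1) (.leaf 57 2 [nat_lit 70, nat_lit 56, nat_lit 42, nat_lit 28, nat_lit 98])
(.leaf 27 3 [nat_lit 56, nat_lit 84, nat_lit 56])))
(.leaf 0 0 []))
noncomputable def wt7 : LT := (.node (nat_lit 3) (.node (nat_lit 0) (.leaf 21 3 [nat_lit 42, nat_lit 98, nat_lit 42])
(.node (nat_lit 1) (.leaf 43 3 [nat_lit 28, nat_lit 0, nat_lit 0])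
(.node (nat_lit 2) (.leaf 11 3 [nat_lit 28, nat_lit 98, nat_lit 28])
(.leaf 29 3 [nat_lit 56, nat_lit 98, nat_lit 56]))))
(.node (nat_lit 4) (.leaf 35 3 [nat_lit 70, nat_lit 98, nat_lit 70])
(.leaf 0 0 [])))
noncomputable def wt8 : LT := (.node (nat_lit 10) (.node (nat_lit 4) (.node (nat_lit 1) (.node (nat_lit 0) (.leaf 38 0 [nat_lit 84, nat_lit 98, nat_lit 84, nat_lit 98, nat_lit 84, nat_lit 98])
(.leaf 9 0 [nat_lit 84, nat_lit 28, nat_lit 84, nat_lit 28]))
(.node (nat_lit 2) (.leaf 2 0 [nat_lit 28, nat_lit 42, nat_lit 28, nat_lit 42, nat_lit 28, nat_lit 42])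
(.node (nat_lit 3) (.leaf 14 1 [nat_lit 56, nat_lit 42, nat_lit 56, nat_lit 42, nat_lit 56, nat_lit 42])
(.leaf 45 7 [nat_lit 70, nat_lit 98, nat_lit 28, nat_lit 56, nat_lit 70, nat_lit 56, nat_lit 70, nat_lit 56, nat_lit 70, nat_lit 56]))))
(.node (nat_lit 7) (.node (nat_lit 5) (.leaf 56 0 [nat_lit 28, nat_lit 42, nat_lit 56, nat_lit 70, nat_lit 84, nat_lit 98])
(.node (nat_lit 6) (.leaf 3 5 [nat_lit 28, nat_lit 42, nat_lit 28, nat_lit 42, nat_lit 28, nat_lit 42])
(.leaf 53 10 [nat_lit 14, nat_lit 56, nat_lit 14, nat_lit 56, nat_lit 42, nat_lit 14, nat_lit 42, nat_lit 56, nat_lit 14, nat_lit 56, nat_lit 42])))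
(.node (nat_lit 8) (.leaf 55 0 [nat_lit 70, nat_lit 14, nat_lit 70, nat_lit 84, nat_lit 14, nat_lit 84, nat_lit 70, nat_lit 14, nat_lit 70, nat_lit 84, nat_lit 14])
(.node (nat_lit 9) (.leaf 53 9 [nat_lit 42, nat_lit 14, nat_lit 56, nat_lit 14, nat_lit 56, nat_lit 42, nat_lit 14, nat_lit 42, nat_lit 56, nat_lit 14, nat_lit 56])
(.leaf 51 0 [nat_lit 14, nat_lit 70, nat_lit 56, nat_lit 42, nat_lit 14, nat_lit 70, nat_lit 56, nat_lit 42, nat_lit 14, nat_lit 70, nat_lit 56, nat_lit 42, nat_lit 14, nat_lit 70, nat_lit 56, nat_lit 42, nat_lit 14, nat_lit 70, nat_lit 56, nat_lit 42])))))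
(.leaf 0 0 []))
noncomputable def sl : List (ℕ × ℕ × List ℕ × List ℕ) := []
/-- the inverse column -/
noncomputable def icol (x : ℕ) : ℕ := List.getD [nat_lit 1, nat_lit 0, nat_lit 2, nat_lit 3, nat_lit 4, nat_lit 5, nat_lit 6, nat_lit 7] x x
noncomputable def inv (x : ℕ) : ℕ := Nat.mul (icol (Nat.div x (nat_lit 14))) (nat_lit 14)
def cols : List ℕ := [nat_lit 112, nat_lit 0, nat_lit 14, nat_lit 28, nat_lit 42, nat_lit 56, nat_lit 70, nat_lit 84, nat_lit 98]
noncomputable def cl : CL := (.cons (nat_lit 0) (nat_lit 14) (nat_lit 0) (nat_lit 0) wt0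
(.cons (nat_lit 14) (nat_lit 0) (nat_lit 21) (nat_lit 1) wt1
(.cons (nat_lit 28) (nat_lit 28) (nat_lit 42) (nat_lit 2) wt2
(.cons (nat_lit 42) (nat_lit 42) (nat_lit 63) (nat_lit 3) wt3
(.cons (nat_lit 56) (nat_lit 56) (nat_lit 84) (nat_lit 4) wt4
(.cons (nat_lit 70) (nat_lit 70) (nat_lit 105) (nat_lit 5) wt5
(.cons (nat_lit 84) (nat_lit 84) (nat_lit 126) (nat_lit 6) wt6
(.cons (nat_lit 98) (nat_lit 98) (nat_lit 147) (nat_lit 7) wt7
.nil))))))))
def rels : List (List ℕ) := [[2, 2],
[2, 3, 2, 3, 2, 3],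
[2, 4, 2, 4],
[2, 5, 2, 5],
[2, 6, 2, 6],
[2, 7, 2, 7],
[3, 3],
[3, 4, 3, 4, 3, 4],
[3, 5, 3, 5],
[3, 6, 3, 6],
[3, 7, 3, 7],
[4, 4],
[4, 5, 4, 5, 4, 5, 4, 5, 4, 5, 4, 5, 4, 5, 4, 5],
[4, 6, 4, 6],
[4, 7, 4, 7],
[5, 5],
[5, 6, 5, 6, 5, 6],
[5, 7, 5, 7],
[6, 6],
[6, 7, 6, 7, 6, 7],
[7, 7],
[2, 7, 1, 1],
[2, 7, 5, 4, 5, 4, 5, 4, 5, 4],
[4, 1, 5, 1, 5, 4, 5, 0, 5, 0],
[5, 1, 4, 1, 4, 5, 4, 0, 4, 0],
[3, 4, 5, 0, 3, 4, 5, 0, 3, 4, 5, 0, 3, 4, 5, 0, 3, 4, 5, 0],
[0, 3, 4, 0, 4, 3, 0, 3, 4, 0, 4],
[0, 6, 5, 0, 5, 6, 0, 6, 5, 0, 5],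
[2, 3, 4, 5, 6, 7]]
def subs : List (List ℕ) := []
noncomputable def chk : ℕ → Bool := rowChk row jrow fget sl cols (nat_lit 1) (nat_lit 42) (nat_lit 16383) (nat_lit 63) (nat_lit 16384) (nat_lit 112) (nat_lit 126) (nat_lit 2097151) (nat_lit 6) (nat_lit 63) (nat_lit 1) (nat_lit 1) cl (nat_lit 168) wt8
theorem p0 : allB chk 6 0 = true := by decide +kernel
theorem all_chk : AllLt chk 42 := by
  have h := AllLt.zero chk
  have h := h.step 42 p0 (by decide +kernel)
  exact h
/-- column `x` of the final table -/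
noncomputable def tab (x u : ℕ) : ℕ := ft fget (nat_lit 6) (nat_lit 63) (nat_lit 1) (nat_lit 1) (Nat.mul x (nat_lit 1)) u
theorem enum {G Ω : Type*} [Group G] [MulAction G Ω] (g : ℕ → G) (ω : Ω)
    (hinv : ∀ x, g (icol x) = (g x)⁻¹) (h1 : g 8 = 1)
    (hrels : ∀ R ∈ rels, ev g R = 1) (hsubs : ∀ S ∈ subs, ev g S • ω = ω) :
    ∃ pt : ℕ → Ω, pt 0 = ω ∧ (∀ K : Subgroup G, (∀ x, g x ∈ K) → ∀ v, ∃ k ∈ K, pt v = k • ω) ∧
      ∀ x, x < 8 → ∀ u, u < 1 → tab x u < 1 ∧ g x • pt u = pt (tab x u) :=
  sound_scaled g ω row jrow fget sl inv icol cols (nat_lit 1) (nat_lit 42) (nat_lit 16383) (nat_lit 63) (nat_lit 16384) (nat_lit 112) (nat_lit 126) (nat_lit 2097151) (nat_lit 6) (nat_lit 63) (nat_lit 1) (nat_lit 1) 6 cl (nat_lit 168) wt8 rels subs 14 (nat_lit 1) 8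
    (fun _ => Nat.mul_div_cancel _ (by decide)) hinv h1 hrels hsubs
    (by decide +kernel) (by decide +kernel) all_chk
end T54.ONh87i
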